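import Groth.Agent.H21Fix.Spread
import Groth.Agent.H21SubEq.Spread

/-!
# Morphisms on the part over a local ring spread to a neighbourhood
-/

set_option autoImplicit false
set_option backward.isDefEq.respectTransparency false
set_option linter.style.haveILetI false

universe u

open CategoryTheory CategoryTheory.Limits AlgebraicGeometry TopologicalSpace

namespace Groth.Agent.H13NeronLoc

/-- Morphisms on opens agreeing on overlaps glue to the union. -/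
theorem exists_glue_opens {X N : Scheme.{u}} {ι : Type u} (W : ι → X.Opens) (f : ∀ i, (W i).toScheme ⟶ N)
    (h : ∀ i k, X.homOfLE inf_le_left ≫ f i = X.homOfLE (inf_le_right : W i ⊓ W k ≤ W k) ≫ f k) :
    ∃ g : (⨆ i, W i).toScheme ⟶ N, ∀ i, X.homOfLE (le_iSup W i) ≫ g = f i := by
  let 𝒰 := Scheme.Opens.iSupOpenCover W
  refine ⟨𝒰.glueMorphisms (Y := N) f (fun i k => ?_), fun i => 𝒰.ι_glueMorphisms _ _ i⟩
  have h1 := isPullback_opens_inf_le (le_iSup W i) (le_iSup W k)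
  refine (cancel_epi h1.isoPullback.hom).mp ?_
  show h1.isoPullback.hom ≫ pullback.fst _ _ ≫ f i = h1.isoPullback.hom ≫ pullback.snd _ _ ≫ f k
  rw [h1.isoPullback_hom_fst_assoc, h1.isoPullback_hom_snd_assoc]
  exact h i k

variable {S W W' N : Scheme.{u}} [IsLocallyNoetherian S] (p : W ⟶ S) [LocallyOfFiniteType p] [QuasiCompact p]
  (πN : N ⟶ S) [LocallyOfFiniteType πN] (j : W' ⟶ W) (s : S) (hrange : ∀ x, p (j x) ⤳ s)
  (hc : ∀ w, p w ⤳ s → ∃ c : Spec (W.presheaf.stalk w) ⟶ W', c ≫ j = W.fromSpecStalk w)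

include hc in
/-- Morphisms agreeing on the part over the local ring agree near the point. -/
theorem exists_nhd_eq_of_comp_eq {a b : W ⟶ N} (ha : a ≫ πN = p) (hb : b ≫ πN = p) (h : j ≫ a = j ≫ b) :
    ∃ V : S.Opens, s ∈ V ∧ (p ⁻¹ᵁ V).ι ≫ a = (p ⁻¹ᵁ V).ι ≫ b := by
  haveI : QuasiCompact (Over.mk p).hom := ‹QuasiCompact p›
  haveI : LocallyOfFiniteType (Over.mk πN).hom := ‹LocallyOfFiniteType πN›
  exact H21Fix.exists_nhd_comp_eq_of_stalk (W := Over.mk p) (X := Over.mk πN) (Over.homMk a ha) (Over.homMk b hb) s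
    fun w hw => by
      obtain ⟨c, hc'⟩ := hc w hw
      show W.fromSpecStalk w ≫ a = W.fromSpecStalk w ≫ b
      rw [← hc', Category.assoc, Category.assoc, h]

include hrange hc in
/-- A morphism from the part over the local ring extends to a neighbourhood. -/
theorem exists_spread [IsPreimmersion j] (h : W' ⟶ N) (hh : h ≫ πN = j ≫ p) :
    ∃ (V : S.Opens) (g : (p ⁻¹ᵁ V).toScheme ⟶ N) (hV : Set.range j ⊆ Set.range (p ⁻¹ᵁ V).ι),
      s ∈ V ∧ g ≫ πN = (p ⁻¹ᵁ V).ι ≫ p ∧ IsOpenImmersion.lift (p ⁻¹ᵁ V).ι j hV ≫ g = h := by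
  haveI : IsLocallyNoetherian W := LocallyOfFiniteType.isLocallyNoetherian p
  -- local pieces
  have hloc : ∀ w, p w ⤳ s → ∃ (U : W.Opens) (g : U.toScheme ⟶ N), w ∈ U ∧ g ≫ πN = U.ι ≫ p ∧
      (j ∣_ U) ≫ g = (j ⁻¹ᵁ U).ι ≫ h := by
    intro w hw
    obtain ⟨c, hc'⟩ := hc w hw
    obtain ⟨U₁, hwU₁, g₁, hg₁, hg₁'⟩ := spread_out_of_isGermInjective' p πN (x := w) (c ≫ h)
      (by rw [Category.assoc, hh, reassoc_of% hc'])
    let x : W' := c (IsLocalRing.closedPoint (W.presheaf.stalk w))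
    have hx : j x = w := by
      show j (c _) = w
      rw [← Scheme.Hom.comp_apply, hc', Scheme.fromSpecStalk_closedPoint]
    let O := j ⁻¹ᵁ U₁
    have hxO : x ∈ O := by
      show j x ∈ U₁
      rw [hx]; exact hwU₁
    have hagree : O.toScheme.fromSpecStalk ⟨x, hxO⟩ ≫ (j ∣_ U₁) ≫ g₁ = O.toScheme.fromSpecStalk ⟨x, hxO⟩ ≫ O.ι ≫ h := by
      -- the map to the stalk factors through `c`
      let σ := O.toScheme.fromSpecStalk ⟨x, hxO⟩ ≫ O.ι
      have hw' : j (O.ι ⟨x, hxO⟩) = w := hx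
      let d : Spec (O.toScheme.presheaf.stalk ⟨x, hxO⟩) ⟶ Spec (W.presheaf.stalk w) :=
        Spec.map ((O.ι ≫ j).stalkMap ⟨x, hxO⟩) ≫ Spec.map (W.presheaf.stalkSpecializes (Inseparable.of_eq hw').specializes)
      have hd : d ≫ W.fromSpecStalk w = σ ≫ j := by
        simp only [d, σ, Category.assoc, Scheme.SpecMap_stalkSpecializes_fromSpecStalk,
          Scheme.SpecMap_stalkMap_fromSpecStalk]
      have hdc : d ≫ c = σ := by rw [← cancel_mono j, Category.assoc, hc', hd]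
      have h2 : O.toScheme.fromSpecStalk ⟨x, hxO⟩ ≫ (j ∣_ U₁) = d ≫ U₁.fromSpecStalkOfMem w hwU₁ := by
        rw [← cancel_mono U₁.ι, Category.assoc, morphismRestrict_ι, Category.assoc,
          Scheme.Opens.fromSpecStalkOfMem_ι, hd, Category.assoc]
      rw [← Category.assoc, h2, Category.assoc, ← hg₁, ← Category.assoc d, hdc]
      rfl
    obtain ⟨T, hxT, hT⟩ := H17.spread_out_unique' πN ((j ∣_ U₁) ≫ g₁) (O.ι ≫ h)
      (by rw [Category.assoc, hg₁', Category.assoc, hh, ← Category.assoc, morphismRestrict_ι, Category.assoc]) hagree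
    obtain ⟨T₀, hT₀, hT₀eq⟩ := (O.ι ≫ j).isEmbedding.isInducing.isOpen_iff.1 T.2
    let U : W.Opens := U₁ ⊓ ⟨T₀, hT₀⟩
    have hwU : w ∈ U := by
      refine ⟨hwU₁, ?_⟩
      have h3 : (⟨x, hxO⟩ : O.toScheme) ∈ (O.ι ≫ j) ⁻¹' T₀ := hT₀eq.symm ▸ hxT
      simpa [hx] using h3
    refine ⟨U, W.homOfLE inf_le_left ≫ g₁, hwU, by rw [Category.assoc, hg₁', Scheme.homOfLE_ι_assoc], ?_⟩
    have hsub : Set.range (W'.homOfLE (j.preimage_mono (inf_le_left : U ≤ U₁))) ⊆ Set.range T.ι := by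
      rintro _ ⟨z, rfl⟩
      rw [Scheme.Opens.range_ι]
      refine hT₀eq.le ?_
      show (O.ι ≫ j) _ ∈ T₀
      rw [← Scheme.Hom.comp_apply, Scheme.homOfLE_ι_assoc]
      exact z.2.2
    have e := IsOpenImmersion.lift T.ι _ hsub ≫= hT
    rw [IsOpenImmersion.lift_fac_assoc, IsOpenImmersion.lift_fac_assoc, Scheme.homOfLE_ι_assoc] at e
    refine Eq.trans ?_ e
    rw [← Category.assoc, ← Category.assoc]
    congr 1
    rw [← cancel_mono U₁.ι, Category.assoc, Category.assoc, Scheme.homOfLE_ι, morphismRestrict_ι,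
      morphismRestrict_ι, Scheme.homOfLE_ι_assoc]
  choose U g hwU hgS hgh using fun w : {w : W // p w ⤳ s} => hloc w.1 w.2
  -- finitely many pieces suffice near `s`
  obtain ⟨V₁, hsV₁, hV₁⟩ := H21SubEq.exists_nhd_preimage_le p (⨆ w, U w) s
    fun w hw => Opens.mem_iSup.2 ⟨⟨w, hw⟩, hwU _⟩
  obtain ⟨V₀, hV₀, hsV₀, hV₀₁⟩ := exists_isAffineOpen_mem_and_subset (X := S) (x := s) (U := V₁) hsV₁
  obtain ⟨F, hF⟩ := (p.isCompact_preimage hV₀.isCompact).elim_finite_subcover (fun w => (U w : Set W)) (fun w => (U w).2)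
    (fun z hz => by
      obtain ⟨i, hi⟩ := Opens.mem_iSup.1 (hV₁ (hV₀₁ hz))
      exact Set.mem_iUnion.2 ⟨i, hi⟩)
  -- agreement on overlaps near `s`
  have hpair : ∀ i k : F, ∃ V : S.Opens, s ∈ V ∧
      W.homOfLE (inf_le_left.trans inf_le_left : (U i.1 ⊓ U k.1) ⊓ p ⁻¹ᵁ V ≤ U i.1) ≫ g i.1 =
        W.homOfLE (inf_le_left.trans inf_le_right : (U i.1 ⊓ U k.1) ⊓ p ⁻¹ᵁ V ≤ U k.1) ≫ g k.1 := by
    intro i k
    let Q := U i.1 ⊓ U k.1
    haveI : QuasiCompact (Q.ι ≫ p) := by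
      haveI : QuasiCompact Q.ι := inferInstance
      infer_instance
    haveI : IsPreimmersion (j ∣_ Q) := MorphismProperty.of_isPullback (isPullback_morphismRestrict j Q).flip ‹_›
    obtain ⟨V, hsV, hV⟩ := exists_nhd_eq_of_comp_eq (Q.ι ≫ p) πN (j ∣_ Q) s (fun w hw => by
        obtain ⟨c, hc'⟩ := hc (Q.ι w) hw
        let d := Spec.map (Q.ι.stalkMap w)
        have hd : (d ≫ c) ≫ j = Q.toScheme.fromSpecStalk w ≫ Q.ι := by
          rw [Category.assoc, hc']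
          exact Scheme.SpecMap_stalkMap_fromSpecStalk Q.ι
        have hsub : Set.range (d ≫ c) ⊆ Set.range (j ⁻¹ᵁ Q).ι := by
          rintro _ ⟨z, rfl⟩
          rw [Scheme.Opens.range_ι]
          show j _ ∈ Q
          rw [← Scheme.Hom.comp_apply, hd]
          exact (Q.toScheme.fromSpecStalk w z).2
        refine ⟨IsOpenImmersion.lift (j ⁻¹ᵁ Q).ι (d ≫ c) hsub, ?_⟩
        rw [← cancel_mono Q.ι, Category.assoc, morphismRestrict_ι, IsOpenImmersion.lift_fac_assoc, hd])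
      (a := W.homOfLE inf_le_left ≫ g i.1) (b := W.homOfLE inf_le_right ≫ g k.1)
      (by rw [Category.assoc, hgS, Scheme.homOfLE_ι_assoc]) (by rw [Category.assoc, hgS, Scheme.homOfLE_ι_assoc])
      (by
        have hres : ∀ {Q' : W.Opens} (hQ : Q ≤ Q'), (j ∣_ Q) ≫ W.homOfLE hQ = W'.homOfLE (j.preimage_mono hQ) ≫ (j ∣_ Q') := fun hQ => by
          rw [← cancel_mono (Scheme.Opens.ι _), Category.assoc, Category.assoc, Scheme.homOfLE_ι,
            morphismRestrict_ι, morphismRestrict_ι, Scheme.homOfLE_ι_assoc]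
        rw [reassoc_of% hres inf_le_left, hgh, reassoc_of% hres inf_le_right, hgh, Scheme.homOfLE_ι_assoc, Scheme.homOfLE_ι_assoc])
    refine ⟨V, hsV, ?_⟩
    have hsub : Set.range (W.homOfLE (inf_le_left : Q ⊓ p ⁻¹ᵁ V ≤ Q)) ⊆ Set.range ((Q.ι ≫ p) ⁻¹ᵁ V).ι := by
      rintro _ ⟨z, rfl⟩
      rw [Scheme.Opens.range_ι]
      show p (Q.ι (W.homOfLE _ z)) ∈ V
      rw [← Scheme.Hom.comp_apply _ Q.ι, Scheme.homOfLE_ι]
      exact z.2.2
    have e := IsOpenImmersion.lift ((Q.ι ≫ p) ⁻¹ᵁ V).ι _ hsub ≫= hV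
    rwa [IsOpenImmersion.lift_fac_assoc, IsOpenImmersion.lift_fac_assoc, Scheme.homOfLE_homOfLE_assoc,
      Scheme.homOfLE_homOfLE_assoc] at e
  choose Vp hsVp hVp using hpair
  let V : S.Opens := V₀ ⊓ (Finset.univ : Finset (F × F)).inf fun ik => Vp ik.1 ik.2
  have hsV : s ∈ V := by
    refine ⟨hsV₀, ?_⟩
    rw [SetLike.mem_coe, ← SetLike.mem_coe, Opens.coe_finset_inf]
    simpa using fun a ha b hb => hsVp ⟨a, ha⟩ ⟨b, hb⟩
  let Wi : F → W.Opens := fun i => U i.1 ⊓ p ⁻¹ᵁ V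
  obtain ⟨G, hG⟩ := exists_glue_opens Wi (fun i => W.homOfLE inf_le_left ≫ g i.1) (fun i k => by
    have hle : Wi i ⊓ Wi k ≤ (U i.1 ⊓ U k.1) ⊓ p ⁻¹ᵁ Vp i k := fun z hz =>
      ⟨⟨hz.1.1, hz.2.1⟩, (inf_le_right.trans (Finset.inf_le (f := fun ik : F × F => Vp ik.1 ik.2) (Finset.mem_univ (i, k))) : V ≤ _) hz.1.2⟩
    have e := W.homOfLE hle ≫= hVp i k
    simpa only [Scheme.homOfLE_homOfLE_assoc, Category.assoc] using e)
  have heq : ⨆ i, Wi i = p ⁻¹ᵁ V := le_antisymm (iSup_le fun i => inf_le_right) fun z hz => by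
    obtain ⟨i, hiF, hi⟩ := Set.mem_iUnion₂.1 (hF hz.1)
    exact Opens.mem_iSup.2 ⟨⟨i, hiF⟩, hi, hz⟩
  have hV : Set.range j ⊆ Set.range (p ⁻¹ᵁ V).ι := by
    rintro _ ⟨x, rfl⟩
    rw [Scheme.Opens.range_ι]
    exact (hrange x).mem_open V.2 hsV
  refine ⟨V, W.homOfLE heq.ge ≫ G, hV, hsV, ?_, ?_⟩
  · have hGS : G ≫ πN = (⨆ i, Wi i).ι ≫ p := by
      refine (Scheme.Opens.iSupOpenCover Wi).hom_ext _ _ fun i => ?_
      show W.homOfLE (le_iSup Wi i) ≫ _ = W.homOfLE (le_iSup Wi i) ≫ _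
      rw [reassoc_of% hG i, hgS, Scheme.homOfLE_ι_assoc, Scheme.homOfLE_ι_assoc]
    rw [Category.assoc, hGS, Scheme.homOfLE_ι_assoc]
  · refine Scheme.hom_ext_of_forall _ _ fun x => ?_
    have hxp : p (j x) ⤳ s := hrange x
    obtain ⟨i, hiF, hi⟩ := Set.mem_iUnion₂.1 (hF (show p (j x) ∈ V₀ from (hxp.mem_open V.2 hsV).1))
    refine ⟨j ⁻¹ᵁ Wi ⟨i, hiF⟩, ⟨hi, hxp.mem_open V.2 hsV⟩, ?_⟩
    have e1 : (j ⁻¹ᵁ Wi ⟨i, hiF⟩).ι ≫ IsOpenImmersion.lift (p ⁻¹ᵁ V).ι j hV ≫ W.homOfLE heq.ge =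
        (j ∣_ Wi ⟨i, hiF⟩) ≫ W.homOfLE (le_iSup Wi ⟨i, hiF⟩) := by
      rw [← cancel_mono (⨆ i, Wi i).ι]
      simp only [Category.assoc, Scheme.homOfLE_ι, IsOpenImmersion.lift_fac, morphismRestrict_ι]
    simp only [← Category.assoc] at e1 ⊢
    rw [e1]
    simp only [Category.assoc]
    rw [hG ⟨i, hiF⟩]
    have e2 : (j ∣_ Wi ⟨i, hiF⟩) ≫ W.homOfLE inf_le_left =
        W'.homOfLE (j.preimage_mono (inf_le_left : Wi ⟨i, hiF⟩ ≤ U i)) ≫ (j ∣_ U i) := by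
      rw [← cancel_mono (U i).ι, Category.assoc, Category.assoc, Scheme.homOfLE_ι,
        morphismRestrict_ι, morphismRestrict_ι, Scheme.homOfLE_ι_assoc]
    rw [reassoc_of% e2, hgh, Scheme.homOfLE_ι_assoc]

end Groth.Agent.H13NeronLoc
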