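import Groth.Agent.H13NeronLoc.Model
import Groth.Agent.H13NeronLoc.Spread

/-!
# The Néron mapping property localizes at a point of the base
-/

set_option autoImplicit false
set_option backward.isDefEq.respectTransparency false
set_option linter.style.haveILetI false

universe u

open CategoryTheory CategoryTheory.Limits AlgebraicGeometry TopologicalSpace

namespace Groth.Agent.H13NeronLoc

theorem hc_restrict {W W' S : Scheme.{u}} (p : W ⟶ S) (j : W' ⟶ W) {s : S}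
    (hc : ∀ w, p w ⤳ s → ∃ c : Spec (W.presheaf.stalk w) ⟶ W', c ≫ j = W.fromSpecStalk w) (Q : W.Opens)
    (w : Q.toScheme) (hw : (Q.ι ≫ p) w ⤳ s) :
    ∃ c : Spec (Q.toScheme.presheaf.stalk w) ⟶ (j ⁻¹ᵁ Q).toScheme, c ≫ (j ∣_ Q) = Q.toScheme.fromSpecStalk w := by
  obtain ⟨c, hc'⟩ := hc (Q.ι w) hw
  let d := Spec.map (Q.ι.stalkMap w)
  have hd : (d ≫ c) ≫ j = Q.toScheme.fromSpecStalk w ≫ Q.ι := by
    rw [Category.assoc, hc']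
    exact Scheme.SpecMap_stalkMap_fromSpecStalk Q.ι
  have hsub : Set.range (d ≫ c) ⊆ Set.range (j ⁻¹ᵁ Q).ι := by
    rintro _ ⟨z, rfl⟩
    rw [Scheme.Opens.range_ι]
    show j _ ∈ Q
    rw [← Scheme.Hom.comp_apply, hd]
    exact (Q.toScheme.fromSpecStalk w z).2
  refine ⟨IsOpenImmersion.lift (j ⁻¹ᵁ Q).ι (d ≫ c) hsub, ?_⟩
  rw [← cancel_mono Q.ι, Category.assoc, morphismRestrict_ι, IsOpenImmersion.lift_fac_assoc, hd]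

theorem comp_preimage_ι_comp {A Z S T : Scheme.{u}} (f : A ⟶ Z) (π : Z ⟶ S) (U : S.Opens) (a : Z ⟶ T) :
    (f ∣_ (π ⁻¹ᵁ U)) ≫ (π ⁻¹ᵁ U).ι ≫ a = ((f ≫ π) ⁻¹ᵁ U).ι ≫ f ≫ a := by
  rw [morphismRestrict_ι_assoc]
  rfl

variable {S : Scheme.{u}} [IsLocallyNoetherian S] (s : S) (U : S.Opens) {N : Scheme.{u}} (πN : N ⟶ S)
  [LocallyOfFiniteType πN]
  (hext : ∀ {Y : Scheme.{u}} (π : Y ⟶ S), Smooth π → ∀ a b : Y ⟶ N, a ≫ πN = π → b ≫ πN = π →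
    (π ⁻¹ᵁ U).ι ≫ a = (π ⁻¹ᵁ U).ι ≫ b → a = b)
  (hext' : ∀ {Y : Scheme.{u}} (π : Y ⟶ S), Smooth π → ∀ h : (π ⁻¹ᵁ U).toScheme ⟶ N,
    h ≫ πN = (π ⁻¹ᵁ U).ι ≫ π → ∃ f : Y ⟶ N, f ≫ πN = π ∧ (π ⁻¹ᵁ U).ι ≫ f = h)

include hext in
theorem ext_affine {Z : Scheme.{u}} [IsAffine Z] (q : Z ⟶ Spec (S.presheaf.stalk s)) [Smooth q]
    (π : Z ⟶ S) (hπ : π = q ≫ S.fromSpecStalk s) (a b : Z ⟶ N) (ha : a ≫ πN = π) (hb : b ≫ πN = π)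
    (hab : (π ⁻¹ᵁ U).ι ≫ a = (π ⁻¹ᵁ U).ι ≫ b) : a = b := by
  obtain ⟨W, p, hp, hpqc, j, hj, hjp, hc⟩ := exists_smooth_model s q
  have hjπ : j ≫ p = π := hjp.trans hπ.symm
  have hrange : ∀ x, p (j x) ⤳ s := fun x => by
    rw [← Scheme.Hom.comp_apply, hjp, Scheme.Hom.comp_apply]
    exact (Scheme.range_fromSpecStalk (X := S) (x := s)).le ⟨_, rfl⟩
  haveI : IsLocallyNoetherian W := LocallyOfFiniteType.isLocallyNoetherian p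
  obtain ⟨V₁, ga, hV₁, hsV₁, hga, hja⟩ := exists_spread p πN j s hrange hc a (ha.trans hjπ.symm)
  obtain ⟨V₂, gb, hV₂, hsV₂, hgb, hjb⟩ := exists_spread p πN j s hrange hc b (hb.trans hjπ.symm)
  let V := V₁ ⊓ V₂
  let W₂ := p ⁻¹ᵁ V
  let Q := W₂ ⊓ p ⁻¹ᵁ U
  let a₂ : W₂.toScheme ⟶ N := W.homOfLE (p.preimage_mono inf_le_left) ≫ ga
  let b₂ : W₂.toScheme ⟶ N := W.homOfLE (p.preimage_mono inf_le_right) ≫ gb
  have ha₂ : a₂ ≫ πN = W₂.ι ≫ p := by simp only [a₂, Category.assoc, hga, Scheme.homOfLE_ι_assoc]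
  have hb₂ : b₂ ≫ πN = W₂.ι ≫ p := by simp only [b₂, Category.assoc, hgb, Scheme.homOfLE_ι_assoc]
  haveI : QuasiCompact (Q.ι ≫ p) := by
    haveI : QuasiCompact Q.ι := inferInstance
    infer_instance
  have hjQ : (j ∣_ Q) ≫ W.homOfLE inf_le_left ≫ a₂ = (j ⁻¹ᵁ Q).ι ≫ a ∧
      (j ∣_ Q) ≫ W.homOfLE inf_le_left ≫ b₂ = (j ⁻¹ᵁ Q).ι ≫ b := by
    constructor
    · rw [← hja]
      simp only [a₂, ← Category.assoc]
      congr 1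
      simp only [← cancel_mono (p ⁻¹ᵁ V₁).ι, Category.assoc, Scheme.homOfLE_ι, morphismRestrict_ι,
        IsOpenImmersion.lift_fac, W₂]
    · rw [← hjb]
      simp only [b₂, ← Category.assoc]
      congr 1
      simp only [← cancel_mono (p ⁻¹ᵁ V₂).ι, Category.assoc, Scheme.homOfLE_ι, morphismRestrict_ι,
        IsOpenImmersion.lift_fac, W₂]
  have hQle : j ⁻¹ᵁ Q ≤ π ⁻¹ᵁ U := fun x hx => by
    show π x ∈ U
    rw [← hjπ, Scheme.Hom.comp_apply]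
    exact hx.2
  obtain ⟨V', hsV', hV'⟩ := exists_nhd_eq_of_comp_eq (Q.ι ≫ p) πN (j ∣_ Q) s (hc_restrict p j hc Q)
    (a := W.homOfLE inf_le_left ≫ a₂) (b := W.homOfLE inf_le_left ≫ b₂)
    (by rw [Category.assoc, ha₂, Scheme.homOfLE_ι_assoc]) (by rw [Category.assoc, hb₂, Scheme.homOfLE_ι_assoc])
    (by rw [hjQ.1, hjQ.2, ← Z.homOfLE_ι hQle, Category.assoc, Category.assoc, hab])
  let W₃ := p ⁻¹ᵁ (V ⊓ V')
  have hW₃ : W₃ ≤ W₂ := p.preimage_mono inf_le_left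
  haveI : Smooth (W₃.ι ≫ p) := MorphismProperty.comp_mem _ _ _ inferInstance hp
  have heq : W.homOfLE hW₃ ≫ a₂ = W.homOfLE hW₃ ≫ b₂ := by
    refine hext (W₃.ι ≫ p) inferInstance _ _ (by rw [Category.assoc, ha₂, Scheme.homOfLE_ι_assoc])
      (by rw [Category.assoc, hb₂, Scheme.homOfLE_ι_assoc]) ?_
    let M := (W₃.ι ≫ p) ⁻¹ᵁ U
    have hsub : Set.range (M.ι ≫ W₃.ι) ⊆ Set.range (((Q.ι ≫ p) ⁻¹ᵁ V').ι ≫ Q.ι) := by
      rintro _ ⟨z, rfl⟩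
      exact ⟨⟨⟨z.1.1, ⟨hW₃ z.1.2, z.2⟩⟩, z.1.2.2⟩, rfl⟩
    let m := IsOpenImmersion.lift (((Q.ι ≫ p) ⁻¹ᵁ V').ι ≫ Q.ι) (M.ι ≫ W₃.ι) hsub
    have hm : m ≫ ((Q.ι ≫ p) ⁻¹ᵁ V').ι ≫ W.homOfLE (inf_le_left : Q ≤ W₂) = M.ι ≫ W.homOfLE hW₃ := by
      simp only [← cancel_mono W₂.ι, Category.assoc, Scheme.homOfLE_ι, m, IsOpenImmersion.lift_fac]
    have e := m ≫= hV'
    rwa [reassoc_of% hm, reassoc_of% hm] at e
  have hj₃ : Set.range j ⊆ Set.range W₃.ι := by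
    rintro _ ⟨x, rfl⟩
    rw [Scheme.Opens.range_ι]
    exact (hrange x).mem_open (V ⊓ V').2 ⟨⟨hsV₁, hsV₂⟩, hsV'⟩
  have e := IsOpenImmersion.lift W₃.ι j hj₃ ≫= heq
  rw [← hja, ← hjb]
  refine Eq.trans ?_ (e.trans ?_)
  · simp only [a₂, ← Category.assoc]
    congr 1
    simp only [← cancel_mono (p ⁻¹ᵁ V₁).ι, Category.assoc, Scheme.homOfLE_ι, IsOpenImmersion.lift_fac]
  · simp only [b₂, ← Category.assoc]
    congr 1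
    simp only [← cancel_mono (p ⁻¹ᵁ V₂).ι, Category.assoc, Scheme.homOfLE_ι, IsOpenImmersion.lift_fac]

include hext in
theorem ext {Z : Scheme.{u}} (q : Z ⟶ Spec (S.presheaf.stalk s)) [Smooth q]
    (π : Z ⟶ S) (hπ : π = q ≫ S.fromSpecStalk s) (a b : Z ⟶ N) (ha : a ≫ πN = π) (hb : b ≫ πN = π)
    (hab : (π ⁻¹ᵁ U).ι ≫ a = (π ⁻¹ᵁ U).ι ≫ b) : a = b := by
  refine Z.affineCover.hom_ext _ _ fun i => ?_
  generalize hf : Z.affineCover.f i = f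
  haveI : IsOpenImmersion f := hf ▸ inferInstance
  haveI : Smooth (f ≫ q) := MorphismProperty.comp_mem _ _ _ inferInstance ‹_›
  refine ext_affine s U πN hext (f ≫ q) (f ≫ π) (by rw [hπ, Category.assoc]) _ _
    (by rw [Category.assoc, ha]) (by rw [Category.assoc, hb]) ?_
  rw [← comp_preimage_ι_comp, ← comp_preimage_ι_comp, hab]

include hext' in
theorem exists_ext_affine {Z : Scheme.{u}} [IsAffine Z] (q : Z ⟶ Spec (S.presheaf.stalk s)) [Smooth q]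
    (π : Z ⟶ S) (hπ : π = q ≫ S.fromSpecStalk s) (h : (π ⁻¹ᵁ U).toScheme ⟶ N)
    (hh : h ≫ πN = (π ⁻¹ᵁ U).ι ≫ π) :
    ∃ f : Z ⟶ N, f ≫ πN = π ∧ (π ⁻¹ᵁ U).ι ≫ f = h := by
  obtain ⟨W, p, hp, hpqc, j, hj, hjp, hc⟩ := exists_smooth_model s q
  have hjπ : j ≫ p = π := hjp.trans hπ.symm
  have hrange : ∀ x, p (j x) ⤳ s := fun x => by
    rw [← Scheme.Hom.comp_apply, hjp, Scheme.Hom.comp_apply]
    exact (Scheme.range_fromSpecStalk (X := S) (x := s)).le ⟨_, rfl⟩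
  haveI : IsLocallyNoetherian W := LocallyOfFiniteType.isLocallyNoetherian p
  let O := p ⁻¹ᵁ U
  haveI : QuasiCompact (O.ι ≫ p) := by
    haveI : QuasiCompact O.ι := inferInstance
    infer_instance
  haveI : IsPreimmersion (j ∣_ O) := MorphismProperty.of_isPullback (isPullback_morphismRestrict j O).flip hj
  have hO : j ⁻¹ᵁ O = π ⁻¹ᵁ U := by rw [← hjπ]; rfl
  obtain ⟨V, g, hV, hsV, hg, hjg⟩ := exists_spread (O.ι ≫ p) πN (j ∣_ O) s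
    (fun x => by
      rw [← Scheme.Hom.comp_apply, morphismRestrict_ι_assoc, Scheme.Hom.comp_apply, Scheme.Hom.comp_apply]
      exact hrange _)
    (hc_restrict p j hc O) (Z.homOfLE hO.le ≫ h)
    (by rw [Category.assoc, hh, Scheme.homOfLE_ι_assoc, morphismRestrict_ι_assoc, hjπ])
  let W₂ := p ⁻¹ᵁ V
  let π₂ := W₂.ι ≫ p
  let M := π₂ ⁻¹ᵁ U
  have hsub : Set.range (M.ι ≫ W₂.ι) ⊆ Set.range (((O.ι ≫ p) ⁻¹ᵁ V).ι ≫ O.ι) := by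
    rintro _ ⟨z, rfl⟩
    exact ⟨⟨⟨z.1.1, z.2⟩, z.1.2⟩, rfl⟩
  let m := IsOpenImmersion.lift (((O.ι ≫ p) ⁻¹ᵁ V).ι ≫ O.ι) (M.ι ≫ W₂.ι) hsub
  have hm : m ≫ ((O.ι ≫ p) ⁻¹ᵁ V).ι ≫ O.ι = M.ι ≫ W₂.ι := IsOpenImmersion.lift_fac _ _ _
  obtain ⟨f, hf, hfh⟩ := hext' π₂ (MorphismProperty.comp_mem _ _ _ inferInstance hp) (m ≫ g)
    (by rw [Category.assoc, hg, reassoc_of% hm])
  have hj₂ : Set.range j ⊆ Set.range W₂.ι := by
    rintro _ ⟨x, rfl⟩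
    rw [Scheme.Opens.range_ι]
    exact (hrange x).mem_open V.2 hsV
  refine ⟨IsOpenImmersion.lift W₂.ι j hj₂ ≫ f, by
    rw [Category.assoc, hf, IsOpenImmersion.lift_fac_assoc, hjπ], ?_⟩
  have hsubM : Set.range ((π ⁻¹ᵁ U).ι ≫ IsOpenImmersion.lift W₂.ι j hj₂) ⊆ Set.range M.ι := by
    rintro _ ⟨z, rfl⟩
    rw [Scheme.Opens.range_ι]
    show (W₂.ι ≫ p) (((π ⁻¹ᵁ U).ι ≫ IsOpenImmersion.lift W₂.ι j hj₂) z) ∈ U
    rw [← Scheme.Hom.comp_apply, Category.assoc, IsOpenImmersion.lift_fac_assoc, hjπ]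
    exact z.2
  rw [← Category.assoc, ← IsOpenImmersion.lift_fac M.ι _ hsubM, Category.assoc, hfh, ← Category.assoc]
  have hh' : h = Z.homOfLE hO.ge ≫ Z.homOfLE hO.le ≫ h := by
    rw [Scheme.homOfLE_homOfLE_assoc, Scheme.homOfLE_rfl, Category.id_comp]
  rw [hh', ← hjg, ← Category.assoc (Z.homOfLE hO.ge)]
  congr 1
  simp only [← cancel_mono (((O.ι ≫ p) ⁻¹ᵁ V).ι ≫ O.ι), Category.assoc, hm,
    IsOpenImmersion.lift_fac_assoc, morphismRestrict_ι, Scheme.homOfLE_ι_assoc,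
    IsOpenImmersion.lift_fac]

include hext hext' in
theorem exists_ext {Z : Scheme.{u}} (q : Z ⟶ Spec (S.presheaf.stalk s)) [Smooth q]
    (π : Z ⟶ S) (hπ : π = q ≫ S.fromSpecStalk s) (h : (π ⁻¹ᵁ U).toScheme ⟶ N)
    (hh : h ≫ πN = (π ⁻¹ᵁ U).ι ≫ π) :
    ∃ f : Z ⟶ N, f ≫ πN = π ∧ (π ⁻¹ᵁ U).ι ≫ f = h := by
  let 𝒰 := Z.affineCover
  have hpiece : ∀ i, ∃ f : 𝒰.X i ⟶ N, f ≫ πN = 𝒰.f i ≫ π ∧
      ((𝒰.f i ≫ π) ⁻¹ᵁ U).ι ≫ f = (𝒰.f i ∣_ (π ⁻¹ᵁ U)) ≫ h := fun i => by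
    haveI : Smooth (𝒰.f i ≫ q) := MorphismProperty.comp_mem _ _ _ inferInstance ‹_›
    exact exists_ext_affine s U πN hext' (𝒰.f i ≫ q) (𝒰.f i ≫ π) (by rw [hπ, Category.assoc]) _
      (by rw [Category.assoc, hh, morphismRestrict_ι_assoc]; rfl)
  choose f hf hfh using hpiece
  have hglue : ∀ i k, pullback.fst (𝒰.f i) (𝒰.f k) ≫ f i = pullback.snd (𝒰.f i) (𝒰.f k) ≫ f k := by
    intro i k
    let m := pullback.fst (𝒰.f i) (𝒰.f k) ≫ 𝒰.f i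
    haveI : Smooth (m ≫ q) := MorphismProperty.comp_mem _ _ _ inferInstance ‹_›
    refine ext s U πN hext (m ≫ q) (m ≫ π) (by rw [hπ]; simp only [Category.assoc]) _ _
      (by rw [Category.assoc, hf, Category.assoc]) (by rw [Category.assoc, hf, ← pullback.condition_assoc, Category.assoc]) ?_
    let M := (m ≫ π) ⁻¹ᵁ U
    have hside : ∀ l (pr : pullback (𝒰.f i) (𝒰.f k) ⟶ 𝒰.X l), pr ≫ 𝒰.f l = m →
        M.ι ≫ pr ≫ f l = (m ∣_ (π ⁻¹ᵁ U)) ≫ h := by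
      intro l pr hpr
      have hsub : Set.range (M.ι ≫ pr) ⊆ Set.range ((𝒰.f l ≫ π) ⁻¹ᵁ U).ι := by
        rintro _ ⟨z, rfl⟩
        rw [Scheme.Opens.range_ι]
        show (𝒰.f l ≫ π) ((M.ι ≫ pr) z) ∈ U
        rw [← Scheme.Hom.comp_apply, Category.assoc, reassoc_of% hpr]
        exact z.2
      rw [← Category.assoc, ← IsOpenImmersion.lift_fac _ _ hsub, Category.assoc, hfh, ← Category.assoc]
      congr 1
      rw [← cancel_mono (π ⁻¹ᵁ U).ι, Category.assoc, morphismRestrict_ι, morphismRestrict_ι]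
      erw [IsOpenImmersion.lift_fac_assoc]
      rw [Category.assoc, hpr]
      rfl
    rw [hside i _ rfl, hside k _ pullback.condition.symm]
  refine ⟨𝒰.glueMorphisms f hglue, 𝒰.hom_ext _ _ fun i => by rw [Scheme.Cover.ι_glueMorphisms_assoc, hf], ?_⟩
  refine (Scheme.openCoverOfIsOpenCover (π ⁻¹ᵁ U).toScheme (fun i => (π ⁻¹ᵁ U).ι ⁻¹ᵁ (𝒰.f i).opensRange) ?_).hom_ext
    _ _ fun i => ?_
  · exact eq_top_iff.2 fun z _ => Opens.mem_iSup.2 ⟨𝒰.idx z.1, 𝒰.covers z.1⟩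
  · let D := (π ⁻¹ᵁ U).ι ⁻¹ᵁ (𝒰.f i).opensRange
    show D.ι ≫ (π ⁻¹ᵁ U).ι ≫ _ = D.ι ≫ h
    have hsub : Set.range (D.ι ≫ (π ⁻¹ᵁ U).ι) ⊆ Set.range (((𝒰.f i ≫ π) ⁻¹ᵁ U).ι ≫ 𝒰.f i) := by
      rintro _ ⟨z, rfl⟩
      obtain ⟨y, hy⟩ := z.2
      refine ⟨⟨y, ?_⟩, hy⟩
      show π (𝒰.f i y) ∈ U
      rw [hy]
      exact z.1.2
    let m := IsOpenImmersion.lift (((𝒰.f i ≫ π) ⁻¹ᵁ U).ι ≫ 𝒰.f i) _ hsub
    have hm : m ≫ ((𝒰.f i ≫ π) ⁻¹ᵁ U).ι ≫ 𝒰.f i = D.ι ≫ (π ⁻¹ᵁ U).ι := IsOpenImmersion.lift_fac _ _ _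
    rw [← reassoc_of% hm, Scheme.Cover.ι_glueMorphisms, hfh, ← Category.assoc]
    congr 1
    rw [← cancel_mono (π ⁻¹ᵁ U).ι, Category.assoc, morphismRestrict_ι]
    exact hm

end Groth.Agent.H13NeronLoc
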