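import Mathlib.AlgebraicGeometry.Morphisms.Smooth
import Mathlib.AlgebraicGeometry.Morphisms.Preimmersion
import Mathlib.AlgebraicGeometry.Noetherian
import Mathlib.RingTheory.Smooth.Locus

/-!
# Smooth affine schemes over a local ring of a scheme extend to smooth schemes over the scheme
-/

set_option autoImplicit false
set_option backward.isDefEq.respectTransparency false
set_option linter.style.haveILetI false

universe u

open CategoryTheory AlgebraicGeometry TopologicalSpace

namespace Groth.Agent.H13NeronLoc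

/-- An algebra smooth over the localization of a Noetherian ring is a localization of a finitely
presented algebra which is smooth at all primes coming from the localization. -/
theorem exists_smooth_algebra {R K A : Type u} [CommRing R] [IsNoetherianRing R] [CommRing K] [Algebra R K]
    (M : Submonoid R) [IsLocalization M K] [CommRing A] [Algebra K A] [Algebra R A] [IsScalarTower R K A]
    [Algebra.Smooth K A] :
    ∃ A₀ : Subalgebra R A, Algebra.FinitePresentation R A₀ ∧
      IsLocalization (Algebra.algebraMapSubmonoid A₀ M) A ∧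
      ∀ P : PrimeSpectrum A, PrimeSpectrum.comap (algebraMap A₀ A) P ∈ Algebra.smoothLocus R A₀ := by
  classical
  obtain ⟨s, hs⟩ := (Algebra.FiniteType.out : (⊤ : Subalgebra K A).FG)
  let A₀ : Subalgebra R A := Algebra.adjoin R (s : Set A)
  haveI : Algebra.FiniteType R A₀ := A₀.fg_iff_finiteType.1 ⟨s, rfl⟩
  haveI : Algebra.FinitePresentation R A₀ := Algebra.FinitePresentation.of_finiteType.1 inferInstance
  have hsurj : ∀ a : A, ∃ m ∈ M, algebraMap R A m * a ∈ A₀ := by
    intro a
    have ha : a ∈ Algebra.adjoin K (s : Set A) := hs ▸ trivial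
    induction ha using Algebra.adjoin_induction with
    | mem x hx => exact ⟨1, one_mem M, by simpa using Algebra.subset_adjoin hx⟩
    | algebraMap k =>
      obtain ⟨⟨r, m⟩, hrm⟩ := IsLocalization.surj M k
      refine ⟨m, m.2, ?_⟩
      have h : algebraMap R A m * algebraMap K A k = algebraMap R A r := by
        rw [IsScalarTower.algebraMap_apply R K A, ← map_mul, mul_comm, hrm,
          ← IsScalarTower.algebraMap_apply R K A]
      exact h ▸ A₀.algebraMap_mem r
    | add x y _ _ hx hy =>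
      obtain ⟨m, hm, hxm⟩ := hx
      obtain ⟨n, hn, hyn⟩ := hy
      refine ⟨m * n, mul_mem hm hn, ?_⟩
      have h : algebraMap R A (m * n) * (x + y) =
          algebraMap R A n * (algebraMap R A m * x) + algebraMap R A m * (algebraMap R A n * y) := by
        rw [map_mul]; ring
      exact h ▸ A₀.add_mem (A₀.mul_mem (A₀.algebraMap_mem n) hxm) (A₀.mul_mem (A₀.algebraMap_mem m) hyn)
    | mul x y _ _ hx hy =>
      obtain ⟨m, hm, hxm⟩ := hx
      obtain ⟨n, hn, hyn⟩ := hy
      refine ⟨m * n, mul_mem hm hn, ?_⟩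
      have h : algebraMap R A (m * n) * (x * y) = (algebraMap R A m * x) * (algebraMap R A n * y) := by
        rw [map_mul]; ring
      exact h ▸ A₀.mul_mem hxm hyn
  haveI hloc : IsLocalization (Algebra.algebraMapSubmonoid A₀ M) A := by
    refine ⟨?_, fun a => ?_, fun {x y} h => ⟨1, by rw [Subtype.val_injective h]⟩⟩
    · rintro ⟨_, m, hm, rfl⟩
      show IsUnit (algebraMap R A m)
      rw [IsScalarTower.algebraMap_apply R K A]
      exact (IsLocalization.map_units K ⟨m, hm⟩).map _
    · obtain ⟨m, hm, ha⟩ := hsurj a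
      exact ⟨⟨⟨_, ha⟩, ⟨algebraMap R A₀ m, m, hm, rfl⟩⟩, mul_comm _ _⟩
  refine ⟨A₀, inferInstance, hloc, fun P => ?_⟩
  haveI : Algebra.FormallySmooth R K := Algebra.FormallySmooth.of_isLocalization M
  let AP := Localization.AtPrime P.asIdeal
  haveI : Algebra.FormallySmooth A AP := Algebra.FormallySmooth.of_isLocalization P.asIdeal.primeCompl
  haveI : Algebra.FormallySmooth R A := Algebra.FormallySmooth.comp R K A
  haveI : Algebra.FormallySmooth R AP := Algebra.FormallySmooth.comp R A AP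
  haveI : IsLocalization.AtPrime AP (P.asIdeal.comap (algebraMap A₀ A)) :=
    IsLocalization.isLocalization_isLocalization_atPrime_isLocalization (Algebra.algebraMapSubmonoid A₀ M) AP P.asIdeal
  exact Algebra.FormallySmooth.of_equiv
    ((IsLocalization.algEquiv (P.asIdeal.comap (algebraMap A₀ A)).primeCompl AP
      (Localization.AtPrime (P.asIdeal.comap (algebraMap A₀ A)))).restrictScalars R)

/-- A smooth affine scheme over the spectrum of a local ring is the pullback of a smooth scheme. -/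
theorem exists_smooth_model {S : Scheme.{u}} [IsLocallyNoetherian S] (s : S) {W' : Scheme.{u}} [IsAffine W']
    (q : W' ⟶ Spec (S.presheaf.stalk s)) [Smooth q] :
    ∃ (W : Scheme.{u}) (p : W ⟶ S) (_ : Smooth p) (_ : QuasiCompact p) (j : W' ⟶ W) (_ : IsPreimmersion j),
      j ≫ p = q ≫ S.fromSpecStalk s ∧
      ∀ w : W, p w ⤳ s → ∃ c : Spec (W.presheaf.stalk w) ⟶ W', c ≫ j = W.fromSpecStalk w := by
  obtain ⟨V, hV, hsV, -⟩ := exists_isAffineOpen_mem_and_subset (X := S) (x := s) (U := ⊤) trivial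
  let R := Γ(S, V)
  haveI : IsNoetherianRing Γ(S, V) := IsLocallyNoetherian.component_noetherian ⟨V, hV⟩
  let K := S.presheaf.stalk s
  letI : Algebra Γ(S, V) (S.presheaf.stalk s) := (S.presheaf.germ V s hsV).hom.toAlgebra
  let 𝔭 := hV.primeIdealOf ⟨s, hsV⟩
  haveI : IsLocalization 𝔭.asIdeal.primeCompl (S.presheaf.stalk s) := hV.isLocalization_stalk ⟨s, hsV⟩
  let A := Γ(W', ⊤)
  obtain ⟨ψ, hψ⟩ := Spec.map_surjective (W'.isoSpec.inv ≫ q)
  have hψs : ψ.hom.Smooth := by
    rw [← HasRingHomProperty.Spec_iff (P := @Smooth), hψ]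
    exact MorphismProperty.comp_mem _ _ _ inferInstance inferInstance
  letI : Algebra (S.presheaf.stalk s) Γ(W', ⊤) := ψ.hom.toAlgebra
  haveI : Algebra.Smooth (S.presheaf.stalk s) Γ(W', ⊤) := hψs
  letI : Algebra Γ(S, V) Γ(W', ⊤) := (ψ.hom.comp (S.presheaf.germ V s hsV).hom).toAlgebra
  haveI : IsScalarTower Γ(S, V) (S.presheaf.stalk s) Γ(W', ⊤) := IsScalarTower.of_algebraMap_eq fun _ => rfl
  obtain ⟨A₀, hfp, hloc, hsm⟩ := exists_smooth_algebra (R := Γ(S, V)) (K := S.presheaf.stalk s) (A := Γ(W', ⊤))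
    𝔭.asIdeal.primeCompl
  let X₀ := Spec (CommRingCat.of A₀)
  let W : X₀.Opens := ⟨Algebra.smoothLocus Γ(S, V) A₀, Algebra.isOpen_smoothLocus⟩
  let π₀ : X₀ ⟶ Spec Γ(S, V) := Spec.map (CommRingCat.ofHom (algebraMap Γ(S, V) A₀))
  let p : W.toScheme ⟶ S := (W.ι ≫ π₀) ≫ hV.fromSpec
  let j₀ : Spec Γ(W', ⊤) ⟶ X₀ := Spec.map (CommRingCat.ofHom (algebraMap A₀ Γ(W', ⊤)))
  haveI : IsPreimmersion j₀ := IsPreimmersion.of_isLocalization (Algebra.algebraMapSubmonoid A₀ 𝔭.asIdeal.primeCompl)
  have hj₀W : Set.range j₀ ⊆ Set.range W.ι := by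
    rintro _ ⟨P, rfl⟩
    rw [Scheme.Opens.range_ι]
    exact hsm P
  let j₁ : Spec Γ(W', ⊤) ⟶ W.toScheme := IsOpenImmersion.lift W.ι j₀ hj₀W
  haveI : IsPreimmersion j₁ :=
    haveI : IsPreimmersion (j₁ ≫ W.ι) := by rw [IsOpenImmersion.lift_fac]; infer_instance
    IsPreimmersion.of_comp j₁ W.ι
  have hsm' : Smooth (W.ι ≫ π₀) := by
    choose f hf hfsm using fun w : W.toScheme =>
      haveI : Algebra.IsSmoothAt Γ(S, V) (PrimeSpectrum.asIdeal (W.ι w)) := w.2
      Algebra.IsSmoothAt.exists_notMem_smooth Γ(S, V) (PrimeSpectrum.asIdeal (W.ι w))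
    let e : ∀ w, Spec (CommRingCat.of (Localization.Away (f w))) ⟶ X₀ :=
      fun w => Spec.map (CommRingCat.ofHom (algebraMap A₀ (Localization.Away (f w))))
    haveI : ∀ w, IsOpenImmersion (e w) := fun w => IsOpenImmersion.of_isLocalization (f w)
    have he : ∀ w, Set.range (e w) ⊆ Set.range W.ι := fun w => by
      rw [Scheme.Opens.range_ι]
      haveI := hfsm w
      exact (PrimeSpectrum.localization_away_comap_range (Localization.Away (f w)) (f w)).trans_subset
        (Algebra.basicOpen_subset_smoothLocus_iff_smooth.2 inferInstance)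
    let 𝒰 : W.toScheme.OpenCover := Scheme.Cover.mkOfCovers W.toScheme (fun w => _)
      (fun w => IsOpenImmersion.lift W.ι (e w) (he w)) (fun w => by
        have h1 : W.ι w ∈ Set.range (e w) :=
          (PrimeSpectrum.localization_away_comap_range (Localization.Away (f w)) (f w)).symm ▸ hf w
        obtain ⟨z, hz⟩ := h1
        refine ⟨w, z, W.ι.isOpenEmbedding.injective ?_⟩
        rw [← Scheme.Hom.comp_apply, IsOpenImmersion.lift_fac, hz])
    rw [IsZariskiLocalAtSource.iff_of_openCover (P := @Smooth) 𝒰]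
    intro w
    show Smooth (IsOpenImmersion.lift W.ι (e w) (he w) ≫ W.ι ≫ π₀)
    rw [IsOpenImmersion.lift_fac_assoc, ← Spec.map_comp, HasRingHomProperty.Spec_iff (P := @Smooth)]
    haveI := hfsm w
    exact RingHom.smooth_algebraMap.2 inferInstance
  haveI : IsNoetherianRing A₀ := Algebra.FiniteType.isNoetherianRing Γ(S, V) A₀
  haveI : NoetherianSpace X₀ := inferInstanceAs (NoetherianSpace (PrimeSpectrum A₀))
  haveI : CompactSpace W.toScheme := isCompact_iff_compactSpace.1 (NoetherianSpace.isCompact (W : Set X₀))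
  refine ⟨W, p, MorphismProperty.comp_mem _ _ _ hsm' inferInstance, quasiCompact_of_compactSpace p,
    W'.isoSpec.hom ≫ j₁, inferInstance, ?_, fun w hw => ?_⟩
  · have h1 : q = W'.isoSpec.hom ≫ Spec.map ψ := by rw [hψ, Iso.hom_inv_id_assoc]
    rw [h1, Category.assoc, Category.assoc]
    congr 1
    simp only [p, j₁, Category.assoc, IsOpenImmersion.lift_fac_assoc, j₀, π₀]
    rw [← Spec.map_comp_assoc, ← hV.fromSpecStalk_eq_fromSpecStalk hsV, IsAffineOpen.fromSpecStalk,
      ← Spec.map_comp_assoc]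
    congr 2
  · let x : X₀ := W.ι w
    have hpx : π₀ x ⤳ (⟨𝔭.asIdeal, inferInstance⟩ : PrimeSpectrum Γ(S, V)) := by
      rw [← hV.fromSpec.isOpenEmbedding.isInducing.specializes_iff]
      have h2 : hV.fromSpec (⟨𝔭.asIdeal, inferInstance⟩ : PrimeSpectrum Γ(S, V)) = s := hV.fromSpec_primeIdealOf ⟨s, hsV⟩
      rw [h2]
      simpa [p, x] using hw
    have hle := (PrimeSpectrum.le_iff_specializes _ _).2 hpx
    let L := X₀.presheaf.stalk x
    have hunit : ∀ m : Algebra.algebraMapSubmonoid A₀ 𝔭.asIdeal.primeCompl,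
        IsUnit ((StructureSheaf.toStalk A₀ x).hom m) := by
      rintro ⟨_, m, hm, rfl⟩
      exact IsLocalization.map_units (M := (PrimeSpectrum.asIdeal x).primeCompl)
        ((AlgebraicGeometry.Spec.structureSheaf A₀).presheaf.stalk x) ⟨algebraMap Γ(S, V) A₀ m, fun h => hm (hle h)⟩
    let κ : Γ(W', ⊤) ⟶ L := CommRingCat.ofHom (IsLocalization.lift hunit)
    have hκ : CommRingCat.ofHom (algebraMap A₀ Γ(W', ⊤)) ≫ κ = StructureSheaf.toStalk A₀ x :=
      CommRingCat.hom_ext (IsLocalization.lift_comp hunit)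
    refine ⟨Spec.map (W.ι.stalkMap w) ≫ Spec.map κ ≫ W'.isoSpec.inv, ?_⟩
    rw [Category.assoc, Category.assoc, Iso.inv_hom_id_assoc, ← cancel_mono W.ι]
    simp only [Category.assoc, j₁, IsOpenImmersion.lift_fac, j₀]
    rw [← Spec.map_comp, hκ]
    refine Eq.trans ?_ (Scheme.SpecMap_stalkMap_fromSpecStalk W.ι)
    exact congrArg (Spec.map (W.ι.stalkMap w) ≫ ·) (Spec.fromSpecStalk_eq' (CommRingCat.of A₀) x).symm

end Groth.Agent.H13NeronLoc
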