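import Groth.Agent.H13Desc.Eff.Sigma
import Mathlib.AlgebraicGeometry.Morphisms.Smooth
import Mathlib.AlgebraicGeometry.Restrict

/-!
# The Néron mapping property for disjoint unions
-/

set_option autoImplicit false
set_option backward.isDefEq.respectTransparency false
set_option linter.style.haveILetI false

universe u

open CategoryTheory CategoryTheory.Limits AlgebraicGeometry TopologicalSpace

namespace Groth.Agent.H13NeronLoc

/-- The mapping property in terms of morphisms of schemes. -/
def MapProp {S N : Scheme.{u}} (U : S.Opens) (πN : N ⟶ S) : Prop :=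
  ∀ {Y : Scheme.{u}} (π : Y ⟶ S), Smooth π →
    (∀ a b : Y ⟶ N, a ≫ πN = π → b ≫ πN = π → (π ⁻¹ᵁ U).ι ≫ a = (π ⁻¹ᵁ U).ι ≫ b → a = b) ∧
    ∀ h : (π ⁻¹ᵁ U).toScheme ⟶ N, h ≫ πN = (π ⁻¹ᵁ U).ι ≫ π →
      ∃ f : Y ⟶ N, f ≫ πN = π ∧ (π ⁻¹ᵁ U).ι ≫ f = h

theorem mapProp_iff {S : Scheme.{u}} (U : S.Opens) (N : Over S) :
    (∀ Y : Over S, Smooth Y.hom → Function.Bijective (fun f : Y ⟶ N => (Over.pullback U.ι).map f)) ↔
      MapProp U N.hom := by
  have hfst : ∀ {T : Scheme.{u}} (p : T ⟶ S),
      (p ⁻¹ᵁ U).ι = (pullbackRestrictIsoRestrict p U).inv ≫ pullback.fst p U.ι :=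
    fun p => (pullbackRestrictIsoRestrict_inv_fst p U).symm
  constructor
  · intro hN Y π hπ
    constructor
    · intro a b ha hb hab
      have := (hN (Over.mk π) hπ).1 (a₁ := Over.homMk a ha) (a₂ := Over.homMk b hb) (Over.OverMorphism.ext (by
        apply pullback.hom_ext
        · have h1 := hab
          rw [hfst, Category.assoc, Category.assoc, cancel_epi] at h1
          simpa using h1
        · simp))
      exact congrArg (fun m => m.left) this
    · intro h hh
      let e := pullbackRestrictIsoRestrict π U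
      obtain ⟨f, hf⟩ := (hN (Over.mk π) hπ).2 (Over.homMk
        (pullback.lift (e.hom ≫ h) (pullback.snd π U.ι) (by
          rw [Category.assoc, hh, pullbackRestrictIsoRestrict_hom_ι_assoc]
          exact pullback.condition))
        (pullback.lift_snd _ _ _))
      refine ⟨f.left, Over.w f, ?_⟩
      have h1 := congrArg (fun m => m.left ≫ pullback.fst N.hom U.ι) hf
      simp at h1
      rw [hfst, Category.assoc]
      erw [h1]
      rw [Iso.inv_hom_id_assoc]
  · intro hN Y hY
    obtain ⟨hinj, hsurj⟩ := hN Y.hom hY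
    have hkey : ∀ f : Y ⟶ N, ((Over.pullback U.ι).map f).left ≫ pullback.fst N.hom U.ι = pullback.fst Y.hom U.ι ≫ f.left :=
      fun f => pullback.lift_fst _ _ _
    refine ⟨fun f f' hff' => Over.OverMorphism.ext (hinj _ _ (Over.w f) (Over.w f') ?_), fun k => ?_⟩
    · rw [hfst, Category.assoc, Category.assoc, ← hkey, ← hkey]
      exact congrArg (fun m => _ ≫ m.left ≫ pullback.fst N.hom U.ι) hff'
    · have hkw : k.left ≫ pullback.snd N.hom U.ι = pullback.snd Y.hom U.ι := Over.w k
      let e := pullbackRestrictIsoRestrict Y.hom U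
      obtain ⟨f, hf, hfh⟩ := hsurj (e.inv ≫ k.left ≫ pullback.fst N.hom U.ι) (by
        simp only [Category.assoc]
        rw [pullback.condition, reassoc_of% hkw, ← pullback.condition]
        exact pullbackRestrictIsoRestrict_inv_fst_assoc _ _ _)
      refine ⟨Over.homMk f hf, Over.OverMorphism.ext (pullback.hom_ext ?_ ?_)⟩
      · show _ ≫ pullback.fst N.hom U.ι = k.left ≫ pullback.fst N.hom U.ι
        rw [hfst, Category.assoc, cancel_epi] at hfh
        exact (hkey _).trans hfh
      · exact (Over.w ((Over.pullback U.ι).map (Over.homMk f hf : Y ⟶ N))).trans hkw.symm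

variable {I : Type u} {B N : I → Scheme.{u}} (f : ∀ i, N i ⟶ B i) (U : (∐ B).Opens)

theorem smooth_sigmaMap_iff : Smooth (Limits.Sigma.map f) ↔ ∀ i, Smooth (f i) := by
  refine ⟨fun h i => MorphismProperty.of_isPullback (H13Desc.Eff.isPullback_sigmaMap f i).flip h, fun h => ?_⟩
  refine IsZariskiLocalAtTarget.of_openCover (P := @Smooth) (sigmaOpenCover B) fun i => ?_
  have sq := (H13Desc.Eff.isPullback_sigmaMap f i).flip
  show Smooth (pullback.snd (Limits.Sigma.map f) (Sigma.ι B i))
  rw [← sq.isoPullback_inv_snd]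
  exact MorphismProperty.comp_mem _ _ _ inferInstance (h i)

theorem mapProp_sigma_iff : MapProp U (Limits.Sigma.map f) ↔ ∀ i, MapProp (Sigma.ι B i ⁻¹ᵁ U) (f i) := by
  constructor
  · intro h i Y π hπ
    have sq := H13Desc.Eff.isPullback_sigmaMap f i
    have hsm : Smooth (π ≫ Sigma.ι B i) := MorphismProperty.comp_mem _ _ _ hπ inferInstance
    obtain ⟨h1, h2⟩ := h (π ≫ Sigma.ι B i) hsm
    refine ⟨fun a b ha hb hab => sq.hom_ext (ha.trans hb.symm) (h1 _ _ ?_ ?_ ?_), fun g hg => ?_⟩
    · rw [Category.assoc, ← sq.w, reassoc_of% ha]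
    · rw [Category.assoc, ← sq.w, reassoc_of% hb]
    · exact (reassoc_of% hab) _
    · obtain ⟨F, hF, hFh⟩ := h2 (g ≫ Sigma.ι N i) (by
        rw [Category.assoc, ← sq.w, reassoc_of% hg]
        rfl)
      refine ⟨sq.lift π F hF.symm, sq.lift_fst _ _ _, sq.hom_ext ?_ ?_⟩
      · rw [Category.assoc, sq.lift_fst]
        exact hg.symm
      · rw [Category.assoc, sq.lift_snd]
        exact hFh
  · intro h Y π hπ
    let 𝒰 : Y.OpenCover := (sigmaOpenCover B).pullback₁ π
    have sq := fun i => H13Desc.Eff.isPullback_sigmaMap f i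
    have hpi : ∀ i : I, Smooth (pullback.snd π (Sigma.ι B i)) := fun i => MorphismProperty.pullback_snd _ _ hπ
    let r : ∀ i : I, ((pullback.snd π (Sigma.ι B i)) ⁻¹ᵁ (Sigma.ι B i ⁻¹ᵁ U)).toScheme ⟶ (π ⁻¹ᵁ U).toScheme := fun i =>
      IsOpenImmersion.lift (π ⁻¹ᵁ U).ι (Scheme.Opens.ι _ ≫ pullback.fst π (Sigma.ι B i)) (by
        rintro _ ⟨z, rfl⟩
        rw [Scheme.Opens.range_ι]
        show π ((Scheme.Opens.ι _ ≫ pullback.fst π (Sigma.ι B i)) z) ∈ U
        rw [← Scheme.Hom.comp_apply, Category.assoc, pullback.condition]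
        exact z.2)
    constructor
    · intro a b ha hb hab
      refine 𝒰.hom_ext _ _ fun (i : I) => ?_
      show pullback.fst π (Sigma.ι B i) ≫ a = pullback.fst π (Sigma.ι B i) ≫ b
      let la := (sq i).lift (pullback.snd π (Sigma.ι B i)) (pullback.fst _ _ ≫ a) (by rw [Category.assoc, ha, pullback.condition])
      let lb := (sq i).lift (pullback.snd π (Sigma.ι B i)) (pullback.fst _ _ ≫ b) (by rw [Category.assoc, hb, pullback.condition])
      have e : la = lb := (h i _ (hpi i)).1 la lb ((sq i).lift_fst _ _ _) ((sq i).lift_fst _ _ _) ((sq i).hom_ext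
        (by simp only [la, lb, Category.assoc, IsPullback.lift_fst])
        (by
          simp only [la, lb, Category.assoc, IsPullback.lift_snd]
          have e2 := r i ≫= hab
          simp only [r, IsOpenImmersion.lift_fac_assoc, Category.assoc] at e2
          exact e2))
      have := e =≫ Sigma.ι N i
      simpa only [la, lb, IsPullback.lift_snd] using this
    · intro g hg
      have hex : ∀ i : I, ∃ F : pullback π (Sigma.ι B i) ⟶ N i, F ≫ f i = pullback.snd π (Sigma.ι B i) ∧
          Scheme.Opens.ι _ ≫ F ≫ Sigma.ι N i = r i ≫ g := fun i => by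
        obtain ⟨F, hF, hFh⟩ := (h i _ (hpi i)).2 ((sq i).lift (Scheme.Opens.ι _ ≫ pullback.snd π (Sigma.ι B i)) (r i ≫ g)
          (by
            simp only [Category.assoc, hg, r, IsOpenImmersion.lift_fac_assoc, pullback.condition]))
          ((sq i).lift_fst _ _ _)
        refine ⟨F, hF, ?_⟩
        rw [reassoc_of% hFh, (sq i).lift_snd]
      choose F hF hFh using hex
      have hglue : ∀ i k : I, pullback.fst (pullback.fst π (Sigma.ι B i)) (pullback.fst π (Sigma.ι B k)) ≫ F i ≫ Sigma.ι N i =
          pullback.snd _ _ ≫ F k ≫ Sigma.ι N k := by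
        intro i k
        by_cases hik : i = k
        · subst hik
          rw [(cancel_mono (pullback.fst π (Sigma.ι B i))).1 pullback.condition]
        · haveI : IsEmpty (pullback (pullback.fst π (Sigma.ι B i)) (pullback.fst π (Sigma.ι B k)) : Scheme.{u}) := ⟨fun z => by
            have h1 : Sigma.ι B i ((pullback.fst _ _ ≫ pullback.snd π (Sigma.ι B i)) z) =
                Sigma.ι B k ((pullback.snd (pullback.fst π (Sigma.ι B i)) _ ≫ pullback.snd π (Sigma.ι B k)) z) := by
              rw [← Scheme.Hom.comp_apply, ← Scheme.Hom.comp_apply, Category.assoc, Category.assoc,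
                ← pullback.condition, ← pullback.condition, pullback.condition_assoc]
            exact hik (congrArg _root_.Sigma.fst ((sigmaι_eq_iff B i k _ _).1 h1))⟩
          exact isInitialOfIsEmpty.hom_ext _ _
      refine ⟨𝒰.glueMorphisms (fun i : I => F i ≫ Sigma.ι N i) hglue, 𝒰.hom_ext _ _ fun (i : I) => ?_, ?_⟩
      · rw [Scheme.Cover.ι_glueMorphisms_assoc]
        show (F i ≫ Sigma.ι N i) ≫ _ = pullback.fst π (Sigma.ι B i) ≫ π
        rw [Category.assoc, ← (sq i).w, reassoc_of% hF i, pullback.condition]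
      · refine Scheme.hom_ext_of_forall _ _ fun z => ?_
        obtain ⟨i, w, hw⟩ := 𝒰.exists_eq z.1
        let M := (pullback.snd π (Sigma.ι B i)) ⁻¹ᵁ (Sigma.ι B i ⁻¹ᵁ U)
        have hwM : w ∈ M := by
          show Sigma.ι B i (pullback.snd π (Sigma.ι B i) w) ∈ U
          rw [← Scheme.Hom.comp_apply, ← pullback.condition, Scheme.Hom.comp_apply]
          exact hw ▸ z.2
        have hr : IsOpenImmersion (r i) := by
          haveI : IsOpenImmersion (r i ≫ (π ⁻¹ᵁ U).ι) := by
            simp only [r, IsOpenImmersion.lift_fac]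
            infer_instance
          exact IsOpenImmersion.of_comp (r i) (π ⁻¹ᵁ U).ι
        refine ⟨(r i).opensRange, ⟨⟨w, hwM⟩, Subtype.ext ?_⟩, ?_⟩
        · show ((r i ≫ (π ⁻¹ᵁ U).ι) ⟨w, hwM⟩) = z.1
          simp only [r, IsOpenImmersion.lift_fac]
          exact hw
        · rw [← cancel_epi ((r i).isoOpensRange).hom]
          simp only [Scheme.Hom.isoOpensRange_hom_ι_assoc]
          rw [← hFh i]
          simp only [r, IsOpenImmersion.lift_fac_assoc]
          rw [Category.assoc]
          exact congrArg (M.ι ≫ ·) (𝒰.ι_glueMorphisms _ hglue i)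

end Groth.Agent.H13NeronLoc
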